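import Mathlib
import Groth.Agent.H23.StalkIdeal
import Groth.Agent.PointBlow.Basic

/-!
# Effective Cartier divisors with prescribed germs at finitely many points
-/

noncomputable section

set_option autoImplicit false
set_option linter.style.haveILetI false
set_option backward.isDefEq.respectTransparency false
set_option backward.isDefEq.respectTransparency.types false

universe u

open CategoryTheory CategoryTheory.Limits AlgebraicGeometry TopologicalSpace
open Groth.Agent.H23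

namespace Groth.Agent.H26.NefGG

open Groth.Agent

/-- A non-multiple of `π` is regular modulo `g` when every prime containing `g` contains `π`. -/
theorem dvd_of_dvd_mul {A : Type u} [CommRing A] [IsDomain A] [IsNoetherianRing A]
    {π g : A} (hπ : Prime π) (hg : g ≠ 0) (hP : ∀ P : Ideal A, P.IsPrime → g ∈ P → π ∈ P) {f : A}
    (hf : ¬ π ∣ f) (h : A) (hh : g ∣ f * h) : g ∣ h := by
  obtain ⟨c, hc, hnd⟩ := (FiniteMultiplicity.of_prime_left hπ hg).exists_eq_pow_mul_and_not_dvd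
  have hu : IsUnit c := by
    by_contra hcu
    obtain ⟨M, hM, hle⟩ := Ideal.exists_le_maximal _ (mt Ideal.span_singleton_eq_top.1 hcu)
    haveI := hM.isPrime
    obtain ⟨Q, hQ, -⟩ := Ideal.exists_minimalPrimes_le hle
    haveI := hQ.1.1
    have hcQ : c ∈ Q := hQ.1.2 (Ideal.mem_span_singleton_self c)
    have hQ1 : Q.height ≤ 1 := Ideal.height_le_one_of_isPrincipal_of_mem_minimalPrimes _ Q hQ
    have hπQ : π ∈ Q := hP Q inferInstance (hc ▸ Q.mul_mem_left _ hcQ)
    haveI : (Ideal.span {π}).IsPrime := (Ideal.span_singleton_prime hπ.ne_zero).2 hπ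
    have hlt : Ideal.span {π} < Q := lt_of_le_of_ne ((Ideal.span_singleton_le_iff_mem _).2 hπQ)
      fun e => hnd (Ideal.mem_span_singleton.1 (e.ge hcQ))
    have hlt0 : (⊥ : Ideal A) < Ideal.span {π} :=
      bot_lt_iff_ne_bot.2 (by rw [Ne, Ideal.span_singleton_eq_bot]; exact hπ.ne_zero)
    haveI : (⊥ : Ideal A).IsPrime := Ideal.isPrime_bot
    have h1 := Ideal.height_strict_mono_of_isPrime hlt
    have h0 := Ideal.height_strict_mono_of_isPrime hlt0
    exact absurd (lt_of_lt_of_le h1 hQ1) (not_lt.2 (Order.one_le_iff_pos.2 (lt_of_le_of_lt bot_le h0)))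
  rw [hc, hu.mul_right_dvd] at hh ⊢
  exact hπ.pow_dvd_of_dvd_mul_left _ hf hh

theorem mem_support_centre_iff {R : CommRingCat.{u}} (J : Ideal R) (P : Spec R) :
    P ∈ ((BlowUpLib.centre J).support : Set ↥(Spec R)) ↔ J ≤ P.asIdeal := by
  have h := Scheme.IdealSheafData.coe_support_ofIdealTop (X := Spec R) (Ideal.map (Scheme.ΓSpecIso R).inv.hom J)
  rw [show ((BlowUpLib.centre J).support : Set ↥(Spec R)) = _ from h, Spec_zeroLocus]
  refine (PrimeSpectrum.mem_zeroLocus _ _).trans ⟨fun hP a ha => hP ?_, fun hP a ha => ?_⟩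
  · show (Scheme.ΓSpecIso R).inv a ∈ Ideal.map _ J
    exact Ideal.mem_map_of_mem _ ha
  · have h2 := Ideal.mem_map_of_mem (Scheme.ΓSpecIso R).hom.hom
      (show (Scheme.ΓSpecIso R).inv a ∈ Ideal.map (Scheme.ΓSpecIso R).inv.hom J from ha)
    rw [Ideal.map_map, ← CommRingCat.hom_comp, Iso.inv_hom_id, CommRingCat.hom_id, Ideal.map_id] at h2
    refine hP ?_
    rwa [← CommRingCat.comp_apply, Iso.inv_hom_id, CommRingCat.id_apply] at h2

/-- Membership of a generization in the support, read in the stalk. -/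
theorem fromSpecStalk_mem_support_iff {X : Scheme.{u}} (I : X.IdealSheafData) (x : X)
    (P : Spec (X.presheaf.stalk x)) :
    X.fromSpecStalk x P ∈ (I.support : Set X) ↔ StalkIdeal.sI I x ≤ P.asIdeal := by
  have h := mem_support_centre_iff (StalkIdeal.tI (I.comap (X.fromSpecStalk x))) P
  erw [← PointBlow.eq_centre, Scheme.IdealSheafData.support_comap] at h
  exact h

/-- Germs with nonzero image on the only curve through a point of a divisor are regular. -/
theorem mem_nonZeroDivisors_stalk {X Z C : Scheme.{u}} [IsIntegral X] [IsLocallyNoetherian X] [IsIntegral C]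
    (z : Z ⟶ X) [IsClosedImmersion z] (g : C ⟶ Z) [IsClosedImmersion g]
    (hz : BlowUp.IsEffCartierIdeal z.ker) (hj : BlowUp.IsEffCartierIdeal (g ≫ z).ker) (c : C)
    (honly : ∀ y : X, y ⤳ z (g c) → y ∈ Set.range z → y ∈ Set.range (g ≫ z))
    (f : Z.presheaf.stalk (g c)) (hf : g.stalkMap c f ≠ 0) : f ∈ nonZeroDivisors (Z.presheaf.stalk (g c)) := by
  obtain ⟨F, rfl⟩ := z.stalkMap_surjective (g c) f
  obtain ⟨G, hG, hGe⟩ := StalkIdeal.exists_gen hz (z (g c))
  obtain ⟨π, hπ, hπe⟩ := StalkIdeal.exists_gen hj (z (g c))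
  have hkz := PointBlow.ker_stalkMap_closed z (g c)
  have hkj : RingHom.ker ((g.stalkMap c).hom.comp (z.stalkMap (g c)).hom) = Ideal.span {π} := by
    rw [← hπe]
    refine Eq.trans ?_ (PointBlow.ker_stalkMap_closed (g ≫ z) c)
    rw [Scheme.Hom.stalkMap_comp]
    rfl
  have hπ0 : π ≠ 0 := nonZeroDivisors.ne_zero hπ
  have hprime : Prime π := (Ideal.span_singleton_prime hπ0).1 (hkj ▸ RingHom.ker_isPrime _)
  have hnd : ¬ π ∣ F := fun hd => hf (RingHom.mem_ker.1 (hkj.ge (Ideal.mem_span_singleton.2 hd)))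
  have hP : ∀ P : Ideal (X.presheaf.stalk (z (g c))), P.IsPrime → G ∈ P → π ∈ P := fun P hPp hGP => by
    have h1 := (fromSpecStalk_mem_support_iff z.ker _ (⟨P, hPp⟩ : PrimeSpectrum _)).2
      (hGe.trans_le ((Ideal.span_singleton_le_iff_mem _).2 hGP))
    rw [Scheme.Hom.support_ker, z.isClosedEmbedding.isClosed_range.closure_eq] at h1
    have h2 : X.fromSpecStalk (z (g c)) (⟨P, hPp⟩ : PrimeSpectrum _) ∈ Set.range (g ≫ z) := honly _ (by
      have h3 := Scheme.range_fromSpecStalk (X := X) (x := z (g c))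
      exact h3.le ⟨_, rfl⟩) h1
    have h4 := (fromSpecStalk_mem_support_iff (g ≫ z).ker _ (⟨P, hPp⟩ : PrimeSpectrum _)).1 (by
      rw [Scheme.Hom.support_ker, (g ≫ z).isClosedEmbedding.isClosed_range.closure_eq]
      exact h2)
    exact h4 (hπe.ge (Ideal.mem_span_singleton_self π))
  refine mem_nonZeroDivisors_iff_right.2 fun a ha => ?_
  obtain ⟨A, rfl⟩ := z.stalkMap_surjective (g c) a
  rw [← map_mul, mul_comm] at ha
  have h5 : F * A ∈ Ideal.span {G} := hGe ▸ hkz ▸ RingHom.mem_ker.2 ha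
  refine RingHom.mem_ker.1 (show A ∈ RingHom.ker (z.stalkMap (g c)).hom from hkz.ge (hGe.ge ?_))
  exact Ideal.mem_span_singleton.2 (dvd_of_dvd_mul hprime (nonZeroDivisors.ne_zero hG) hP hnd A
    (Ideal.mem_span_singleton.1 h5))

/-- Glue prescribed germs at finitely many points, units nearby, into a Cartier divisor. -/
theorem exists_cartier_of_points {Z : Scheme.{u}} (P : Finset Z) (hP : ∀ q ∈ P, IsClosed ({q} : Set Z))
    (f : ∀ q : Z, Z.presheaf.stalk q) (hf : ∀ q ∈ P, f q ∈ nonZeroDivisors (Z.presheaf.stalk q))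
    (hloc : ∀ q ∈ P, ∃ (W : Z.Opens) (hq : q ∈ W) (a : Γ(Z, W)), Z.presheaf.germ W q hq a = f q ∧
      ∀ y ∈ W, y ≠ q → y ∈ Z.basicOpen a) :
    ∃ J : Z.IdealSheafData, BlowUp.IsEffCartierIdeal J ∧ (∀ q ∈ P, StalkIdeal.sI J q = Ideal.span {f q}) ∧
      ∀ y, y ∉ P → StalkIdeal.sI J y = ⊤ := by
  classical
  let S : ∀ y : Z, Ideal (Z.presheaf.stalk y) := fun y => if y ∈ P then Ideal.span {f y} else ⊤
  have hS : ∀ y : Z, ∃ (U : Z.affineOpens) (a : Γ(Z, U.1)), y ∈ U.1 ∧ StalkIdeal.Gen S U a := fun y => by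
    have hoff : ∀ Q ⊆ P, IsOpen ((Q : Set Z)ᶜ) := fun Q hQ => by
      rw [← Set.biUnion_of_singleton (Q : Set Z)]
      exact (Q.finite_toSet.isClosed_biUnion fun q hq => hP q (hQ hq)).isOpen_compl
    by_cases hy : y ∈ P
    · obtain ⟨W, hyW, a, ha, hunit⟩ := hloc y hy
      let O : Z.Opens := ⟨((P.erase y : Finset Z) : Set Z)ᶜ, hoff _ (Finset.erase_subset _ _)⟩
      obtain ⟨U, hU, hyU, hUle⟩ := exists_isAffineOpen_mem_and_subset
        (show y ∈ W ⊓ O from ⟨hyW, fun h => (Finset.mem_erase.1 h).1 rfl⟩)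
      have hUW : U ≤ W := fun w hw => (hUle hw).1
      refine ⟨⟨U, hU⟩, Z.presheaf.map (homOfLE hUW).op a, hyU, fun w hw => ?_⟩
      rw [Z.presheaf.germ_res_apply]
      show (if w ∈ P then Ideal.span {f w} else ⊤) = _
      by_cases hwy : w = y
      · subst hwy
        rw [if_pos hy]
        exact (congrArg (fun t => Ideal.span {t}) ha).symm
      · rw [if_neg fun h => (hUle hw).2 (Finset.mem_erase.2 ⟨hwy, h⟩)]
        exact (Ideal.span_singleton_eq_top.2 ((Z.mem_basicOpen _ w (hUW hw)).1 (hunit w (hUW hw) hwy))).symm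
    · let O : Z.Opens := ⟨(P : Set Z)ᶜ, hoff P subset_rfl⟩
      obtain ⟨U, hU, hyU, hUle⟩ := exists_isAffineOpen_mem_and_subset (show y ∈ O from hy)
      refine ⟨⟨U, hU⟩, 1, hyU, fun w hw => ?_⟩
      show (if w ∈ P then Ideal.span {f w} else ⊤) = _
      rw [map_one, Ideal.span_singleton_one]
      exact if_neg fun h => hUle hw h
  refine ⟨StalkIdeal.ofStalks S hS, StalkIdeal.isEffCartier_ofStalks hS fun y => ?_, fun q hq => ?_, fun y hy => ?_⟩
  · by_cases hy : y ∈ P
    · exact ⟨f y, hf y hy, if_pos hy⟩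
    · exact ⟨1, one_mem _, (if_neg hy).trans Ideal.span_singleton_one.symm⟩
  · rw [StalkIdeal.sI_ofStalks]; exact if_pos hq
  · rw [StalkIdeal.sI_ofStalks]; exact if_neg hy

end Groth.Agent.H26.NefGG
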